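import Groth.Agent.Lib.GrpLimit2.Basic
import Groth.Prelude.Def_AlgGrp
import Mathlib.CategoryTheory.Limits.Preserves.Shapes.Pullbacks

/-!
# Equalities and factorisations over a cofiltered limit; normal and central monomorphisms
-/

set_option autoImplicit false
set_option linter.style.haveILetI false
set_option backward.isDefEq.respectTransparency false
set_option backward.isDefEq.respectTransparency.types false

universe u

open CategoryTheory Limits AlgebraicGeometry MonoidalCategory CartesianMonoidalCategory MonObj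

noncomputable section

namespace Groth.Agent.GrpLim20

section BC

variable {S S' : Scheme.{u}} (h : S' ⟶ S) {G H : Over S} [GrpObj G] [GrpObj H] (u : H ⟶ G)

theorem mono_map_iff :
    Mono ((Over.pullback h).map u) ↔
      (Over.pullback h).map (pullback.fst u u) = (Over.pullback h).map (pullback.snd u u) := by
  have hp := (IsPullback.of_hasPullback u u).map (Over.pullback h)
  constructor
  · intro hm
    exact (cancel_mono ((Over.pullback h).map u)).1 hp.w
  · intro e
    refine ⟨fun a b hab => ?_⟩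
    exact (hp.lift_fst a b hab).symm.trans ((congrArg (hp.lift a b hab ≫ ·) e).trans (hp.lift_snd a b hab))

/-- The point of `G ⊗ H` with given components, after base change. -/
theorem exists_lift {T : Over S'} (g : T ⟶ Red.bc h G) (n : T ⟶ Red.bc h H) :
    ∃ w : T ⟶ Red.bc h (G ⊗ H), w ≫ (Over.pullback h).map (fst G H) = g ∧
      w ≫ (Over.pullback h).map (snd G H) = n :=
  ⟨lift g n ≫ Functor.LaxMonoidal.μ (Over.pullback h) G H,
    by rw [Category.assoc, Functor.Monoidal.μ_fst, lift_fst],
    by rw [Category.assoc, Functor.Monoidal.μ_snd, lift_snd]⟩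

/-- The universal conjugate. -/
def conj : G ⊗ H ⟶ G := fst G H * (snd G H ≫ u) * (fst G H)⁻¹

theorem map_conj : (Over.pullback h).map (conj u) =
    (Over.pullback h).map (fst G H) * ((Over.pullback h).map (snd G H) ≫ (Over.pullback h).map u) *
      ((Over.pullback h).map (fst G H))⁻¹ := by
  rw [conj, Functor.map_mul, Functor.map_mul, Functor.map_inv', Functor.map_comp]

theorem normal_map_iff [IsMonHom u] :
    AlgGrp.IsNormalHom ((Over.pullback h).map u) ↔
      ∃ v : Red.bc h (G ⊗ H) ⟶ Red.bc h H, (Over.pullback h).map (conj u) = v ≫ (Over.pullback h).map u := by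
  constructor
  · intro hn
    obtain ⟨v, hv⟩ := hn _ ((Over.pullback h).map (fst G H)) ((Over.pullback h).map (snd G H))
    exact ⟨v, (map_conj h u).trans hv⟩
  · rintro ⟨v, hv⟩ T g n
    obtain ⟨w, rfl, rfl⟩ := exists_lift h g n
    refine ⟨w ≫ v, ?_⟩
    rw [Category.assoc, Category.assoc, ← hv, map_conj, MonObj.comp_mul, MonObj.comp_mul, GrpObj.comp_inv]

theorem central_map_iff :
    (∀ (T : Over S') (g : T ⟶ Red.bc h G) (n : T ⟶ Red.bc h H),
        g * (n ≫ (Over.pullback h).map u) = (n ≫ (Over.pullback h).map u) * g) ↔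
      (Over.pullback h).map (fst G H * (snd G H ≫ u)) = (Over.pullback h).map ((snd G H ≫ u) * fst G H) := by
  rw [Functor.map_mul, Functor.map_mul, Functor.map_comp]
  constructor
  · intro hc
    exact hc _ _ _
  · intro e T g n
    obtain ⟨w, rfl, rfl⟩ := exists_lift h g n
    rw [Category.assoc, ← MonObj.comp_mul, e, MonObj.comp_mul]

end BC

section Lim

open GrpLimit2

variable {I : Type u} [SmallCategory I] [IsCofiltered I] {D : I ⥤ Scheme.{u}} {c : Cone D}

theorem map_eq_mono {j i k : I} (f : i ⟶ j) (g : k ⟶ i) {A B : Over (D.obj j)} {a b : A ⟶ B}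
    (e : (Over.pullback (D.map f)).map a = (Over.pullback (D.map f)).map b) :
    (Over.pullback (D.map (g ≫ f))).map a = (Over.pullback (D.map (g ≫ f))).map b := by
  have hfg : D.map g ≫ D.map f = D.map (g ≫ f) := (D.map_comp g f).symm
  rw [← cancel_epi (cmp hfg A).hom, ← cmp_natural, ← cmp_natural, e]

theorem factor_mono {j i k : I} (f : i ⟶ j) (g : k ⟶ i) {A B C : Over (D.obj j)} {a : A ⟶ C} {b : B ⟶ C}
    (v : Red.bc (D.map f) A ⟶ Red.bc (D.map f) B)
    (e : (Over.pullback (D.map f)).map a = v ≫ (Over.pullback (D.map f)).map b) :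
    ∃ v' : Red.bc (D.map (g ≫ f)) A ⟶ Red.bc (D.map (g ≫ f)) B,
      (Over.pullback (D.map (g ≫ f))).map a = v' ≫ (Over.pullback (D.map (g ≫ f))).map b := by
  have hfg : D.map g ≫ D.map f = D.map (g ≫ f) := (D.map_comp g f).symm
  refine ⟨(cmp hfg A).inv ≫ (Over.pullback (D.map g)).map v ≫ (cmp hfg B).hom, ?_⟩
  rw [Category.assoc, Category.assoc, ← cmp_natural, Iso.eq_inv_comp, ← cmp_natural, e,
    (Over.pullback _).map_comp, Category.assoc]

variable [∀ {i j : I} (a : i ⟶ j), IsAffineHom (D.map a)]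

theorem map_eq_lim {j i : I} (f : i ⟶ j) {A B : Over (D.obj j)} {a b : A ⟶ B}
    (e : (Over.pullback (D.map f)).map a = (Over.pullback (D.map f)).map b) :
    (Over.pullback (c.π.app j)).map a = (Over.pullback (c.π.app j)).map b := by
  rw [← cancel_epi (cmp (comp_π f) A).hom, ← cmp_natural, ← cmp_natural, e]

theorem factor_lim {j i : I} (f : i ⟶ j) {A B C : Over (D.obj j)} {a : A ⟶ C} {b : B ⟶ C}
    (v : Red.bc (D.map f) A ⟶ Red.bc (D.map f) B)
    (e : (Over.pullback (D.map f)).map a = v ≫ (Over.pullback (D.map f)).map b) :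
    ∃ v' : Red.bc (c.π.app j) A ⟶ Red.bc (c.π.app j) B,
      (Over.pullback (c.π.app j)).map a = v' ≫ (Over.pullback (c.π.app j)).map b := by
  refine ⟨(cmp (comp_π f) A).inv ≫ (Over.pullback (c.π.app i)).map v ≫ (cmp (comp_π f) B).hom, ?_⟩
  rw [Category.assoc, Category.assoc, ← cmp_natural, Iso.eq_inv_comp, ← cmp_natural, e,
    (Over.pullback _).map_comp, Category.assoc]

theorem exists_eq (hc : IsLimit c) {j : I} {A B : Over (D.obj j)} [CompactSpace A.left]
    [QuasiSeparatedSpace A.left] [LocallyOfFiniteType B.hom] {a b : A ⟶ B} :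
    (Over.pullback (c.π.app j)).map a = (Over.pullback (c.π.app j)).map b ↔
      ∃ (i : I) (f : i ⟶ j), (Over.pullback (D.map f)).map a = (Over.pullback (D.map f)).map b :=
  ⟨exists_map_eq hc a b, fun ⟨_, f, e⟩ => map_eq_lim f e⟩

theorem exists_factor (hc : IsLimit c) [∀ i, CompactSpace (D.obj i)] [∀ i, QuasiSeparatedSpace (D.obj i)]
    {j : I} {A B C : Over (D.obj j)} [QuasiCompact A.hom] [QuasiSeparated A.hom]
    [LocallyOfFinitePresentation B.hom] [LocallyOfFiniteType C.hom] {a : A ⟶ C} {b : B ⟶ C}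
    (v : Red.bc (c.π.app j) A ⟶ Red.bc (c.π.app j) B)
    (e : (Over.pullback (c.π.app j)).map a = v ≫ (Over.pullback (c.π.app j)).map b) :
    ∃ (i : I) (f : i ⟶ j) (v' : Red.bc (D.map f) A ⟶ Red.bc (D.map f) B),
      (Over.pullback (D.map f)).map a = v' ≫ (Over.pullback (D.map f)).map b := by
  haveI : CompactSpace A.left := QuasiCompact.compactSpace_of_compactSpace A.hom
  haveI : QuasiSeparatedSpace A.left := quasiSeparatedSpace_of_quasiSeparated A.hom
  obtain ⟨i, f, vi, hvi⟩ := exists_descend hc v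
  haveI : QuasiCompact (Red.bc (D.map f) A).hom := MorphismProperty.pullback_snd _ _ inferInstance
  haveI : QuasiSeparated (Red.bc (D.map f) A).hom := MorphismProperty.pullback_snd _ _ inferInstance
  haveI : LocallyOfFiniteType (Red.bc (D.map f) C).hom := MorphismProperty.pullback_snd _ _ inferInstance
  haveI : CompactSpace (Red.bc (D.map f) A).left :=
    QuasiCompact.compactSpace_of_compactSpace (Red.bc (D.map f) A).hom
  haveI : QuasiSeparatedSpace (Red.bc (D.map f) A).left :=
    quasiSeparatedSpace_of_quasiSeparated (Red.bc (D.map f) A).hom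
  obtain ⟨k, g, hk⟩ := exists_map_eq (c := c) hc ((Over.pullback (D.map f)).map a)
    (vi ≫ (Over.pullback (D.map f)).map b) (by
      rw [← cancel_mono (cmp (comp_π f) C).hom, cmp_natural, e, Functor.map_comp, Category.assoc, cmp_natural,
        reassoc_of% hvi])
  have hfg : D.map g ≫ D.map f = D.map (g ≫ f) := (D.map_comp g f).symm
  refine ⟨k, g ≫ f, (cmp hfg A).inv ≫ (Over.pullback (D.map g)).map vi ≫ (cmp hfg B).hom, ?_⟩
  rw [Category.assoc, Category.assoc, ← cmp_natural, Iso.eq_inv_comp, ← cmp_natural, hk,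
    (Over.pullback _).map_comp, Category.assoc]

omit [∀ {i j : I} (a : i ⟶ j), IsAffineHom (D.map a)] in
theorem exists_common {j i₁ i₂ : I} (f₁ : i₁ ⟶ j) (f₂ : i₂ ⟶ j) :
    ∃ (k : I) (a : k ⟶ i₁) (b : k ⟶ i₂), a ≫ f₁ = b ≫ f₂ :=
  ⟨_, IsCofiltered.eqHom (IsCofiltered.minToLeft i₁ i₂ ≫ f₁) (IsCofiltered.minToRight i₁ i₂ ≫ f₂) ≫
      IsCofiltered.minToLeft i₁ i₂,
    IsCofiltered.eqHom (IsCofiltered.minToLeft i₁ i₂ ≫ f₁) (IsCofiltered.minToRight i₁ i₂ ≫ f₂) ≫
      IsCofiltered.minToRight i₁ i₂,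
    by rw [Category.assoc, Category.assoc]; exact IsCofiltered.eq_condition _ _⟩

/-- Normal, resp. central, monomorphisms over the limit. -/
theorem normal_central_iff (hc : IsLimit c) [∀ i, CompactSpace (D.obj i)] [∀ i, QuasiSeparatedSpace (D.obj i)]
    {j : I} (G H : Over (D.obj j)) [GrpObj G] [GrpObj H]
    [LocallyOfFinitePresentation G.hom] [QuasiCompact G.hom] [QuasiSeparated G.hom]
    [LocallyOfFinitePresentation H.hom] [QuasiCompact H.hom] [QuasiSeparated H.hom] (u : H ⟶ G) [IsMonHom u] :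
    ((Mono ((Over.pullback (c.π.app j)).map u) ∧ AlgGrp.IsNormalHom ((Over.pullback (c.π.app j)).map u)) ↔
      ∃ (i : I) (f : i ⟶ j), Mono ((Over.pullback (D.map f)).map u) ∧
        AlgGrp.IsNormalHom ((Over.pullback (D.map f)).map u)) ∧
    ((Mono ((Over.pullback (c.π.app j)).map u) ∧ (∀ (T : Over c.pt) (g : T ⟶ Red.bc (c.π.app j) G)
        (n : T ⟶ Red.bc (c.π.app j) H),
        g * (n ≫ (Over.pullback (c.π.app j)).map u) = (n ≫ (Over.pullback (c.π.app j)).map u) * g)) ↔
      ∃ (i : I) (f : i ⟶ j), Mono ((Over.pullback (D.map f)).map u) ∧ (∀ (T : Over (D.obj i))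
        (g : T ⟶ Red.bc (D.map f) G) (n : T ⟶ Red.bc (D.map f) H),
        g * (n ≫ (Over.pullback (D.map f)).map u) = (n ≫ (Over.pullback (D.map f)).map u) * g)) := by
  haveI : CompactSpace G.left := QuasiCompact.compactSpace_of_compactSpace G.hom
  haveI : CompactSpace H.left := QuasiCompact.compactSpace_of_compactSpace H.hom
  haveI : QuasiSeparatedSpace G.left := quasiSeparatedSpace_of_quasiSeparated G.hom
  haveI : QuasiSeparatedSpace H.left := quasiSeparatedSpace_of_quasiSeparated H.hom
  haveI : QuasiCompact (G ⊗ H).hom := by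
    rw [show (G ⊗ H).hom = pullback.fst G.hom H.hom ≫ G.hom from rfl]; infer_instance
  haveI : QuasiSeparated (G ⊗ H).hom := by
    rw [show (G ⊗ H).hom = pullback.fst G.hom H.hom ≫ G.hom from rfl]; infer_instance
  haveI : CompactSpace (G ⊗ H).left := QuasiCompact.compactSpace_of_compactSpace (G ⊗ H).hom
  haveI : QuasiSeparatedSpace (G ⊗ H).left := quasiSeparatedSpace_of_quasiSeparated (G ⊗ H).hom
  have hP := (IsPullback.of_hasPullback u u).map (Over.forget _)
  haveI : LocallyOfFiniteType (u.left ≫ G.hom) := by rw [Over.w]; infer_instance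
  haveI : QuasiCompact (pullback u u).hom := by
    rw [show (pullback u u).hom = (pullback.fst u u).left ≫ H.hom from (Over.w _).symm]
    haveI : QuasiSeparated u.left := by
      haveI : QuasiSeparated (u.left ≫ G.hom) := by rw [Over.w]; infer_instance
      exact QuasiSeparated.of_comp u.left G.hom
    haveI : QuasiCompact u.left := by
      haveI : QuasiCompact (u.left ≫ G.hom) := by rw [Over.w]; infer_instance
      exact QuasiCompact.of_comp u.left G.hom
    haveI : QuasiCompact (pullback.fst u u).left :=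
      MorphismProperty.of_isPullback (P := @QuasiCompact) hP.flip (inferInstanceAs (QuasiCompact u.left))
    infer_instance
  haveI : QuasiSeparated (pullback u u).hom := by
    rw [show (pullback u u).hom = (pullback.fst u u).left ≫ H.hom from (Over.w _).symm]
    haveI : QuasiSeparated u.left := by
      haveI : QuasiSeparated (u.left ≫ G.hom) := by rw [Over.w]; infer_instance
      exact QuasiSeparated.of_comp u.left G.hom
    haveI : QuasiSeparated (pullback.fst u u).left :=
      MorphismProperty.of_isPullback (P := @QuasiSeparated) hP.flip (inferInstanceAs (QuasiSeparated u.left))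
    infer_instance
  haveI : CompactSpace (pullback u u).left := QuasiCompact.compactSpace_of_compactSpace (pullback u u).hom
  haveI : QuasiSeparatedSpace (pullback u u).left := quasiSeparatedSpace_of_quasiSeparated (pullback u u).hom
  simp only [mono_map_iff, normal_map_iff, central_map_iff]
  refine ⟨⟨?_, ?_⟩, ⟨?_, ?_⟩⟩
  · rintro ⟨e, v, hv⟩
    obtain ⟨i₁, f₁, e₁⟩ := (exists_eq hc).1 e
    obtain ⟨i₂, f₂, v₂, hv₂⟩ := exists_factor hc v hv
    obtain ⟨k, a, b, hab⟩ := exists_common f₁ f₂
    refine ⟨k, a ≫ f₁, map_eq_mono f₁ a e₁, ?_⟩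
    rw [hab]
    exact factor_mono f₂ b v₂ hv₂
  · rintro ⟨i, f, e, v, hv⟩
    exact ⟨map_eq_lim f e, factor_lim f v hv⟩
  · rintro ⟨e, e'⟩
    obtain ⟨i₁, f₁, e₁⟩ := (exists_eq hc).1 e
    obtain ⟨i₂, f₂, e₂⟩ := (exists_eq hc).1 e'
    obtain ⟨k, a, b, hab⟩ := exists_common f₁ f₂
    refine ⟨k, a ≫ f₁, map_eq_mono f₁ a e₁, ?_⟩
    rw [hab]
    exact map_eq_mono f₂ b e₂
  · rintro ⟨i, f, e, e'⟩
    exact ⟨map_eq_lim f e, map_eq_lim f e'⟩

end Lim

end Groth.Agent.GrpLim20
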